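import Cfsg.Agent.Lib.Chevalley.Homocyclic.Data

/-!
Certificates over the Weyl group of F4, listed as products of coset representatives: each element
is annihilated by one of five polynomials; an element annihilated by the eighth or twelfth
cyclotomic polynomial moves every root cyclically through a basis with determinant a power of
two; each element of order two or three has a root whose orbit sums to zero.
-/

set_option autoImplicit false
set_option maxRecDepth 100000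

namespace CfsgLib.Chevalley.F4Prime

open Cfsg.Lie Homocyclic

/-- Integer matrices as lists of rows. -/
abbrev Mx := List (List ℤ)

/-- An entry. -/
def ent (M : Mx) (i j : ℕ) : ℤ := (M.getD i []).getD j 0

/-- The matrix of a list. -/
def toMat (M : Mx) : Matrix (Fin 4) (Fin 4) ℤ := Matrix.of fun i j => ent M i j

/-- A list from entries. -/
def mk4 (f : ℕ → ℕ → ℤ) : Mx :=
  [[f 0 0, f 0 1, f 0 2, f 0 3], [f 1 0, f 1 1, f 1 2, f 1 3],
    [f 2 0, f 2 1, f 2 2, f 2 3], [f 3 0, f 3 1, f 3 2, f 3 3]]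

/-- Product. -/
def mulX (M N : Mx) : Mx :=
  mk4 fun i j => ent M i 0 * ent N 0 j + ent M i 1 * ent N 1 j + ent M i 2 * ent N 2 j + ent M i 3 * ent N 3 j

/-- Sum. -/
def addX (M N : Mx) : Mx := mk4 fun i j => ent M i j + ent N i j

/-- The identity. -/
def idX : Mx := [[1, 0, 0, 0], [0, 1, 0, 0], [0, 0, 1, 0], [0, 0, 0, 1]]

/-- The fundamental reflections. -/
def genX (i : ℕ) : Mx :=
  ([[[-1, 1, 0, 0], [0, 1, 0, 0], [0, 0, 1, 0], [0, 0, 0, 1]],
    [[1, 0, 0, 0], [1, -1, 2, 0], [0, 0, 1, 0], [0, 0, 0, 1]],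
    [[1, 0, 0, 0], [0, 1, 0, 0], [0, 1, -1, 1], [0, 0, 0, 1]],
    [[1, 0, 0, 0], [0, 1, 0, 0], [0, 0, 1, 0], [0, 0, 1, -1]]] : List Mx).getD i idX

/-- The coset representatives along the chain of parabolic subgroups. -/
def repsX : List (List Mx) := [
  [[[1, 0, 0, 0], [0, 1, 0, 0], [0, 0, 1, 0], [0, 0, 0, 1]],
    [[-1, 1, 0, 0], [0, 1, 0, 0], [0, 0, 1, 0], [0, 0, 0, 1]]],
  [[[1, 0, 0, 0], [0, 1, 0, 0], [0, 0, 1, 0], [0, 0, 0, 1]],
    [[1, 0, 0, 0], [1, -1, 2, 0], [0, 0, 1, 0], [0, 0, 0, 1]],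
    [[0, -1, 2, 0], [1, -1, 2, 0], [0, 0, 1, 0], [0, 0, 0, 1]]],
  [[[1, 0, 0, 0], [0, 1, 0, 0], [0, 0, 1, 0], [0, 0, 0, 1]],
    [[1, 0, 0, 0], [0, 1, 0, 0], [0, 1, -1, 1], [0, 0, 0, 1]],
    [[1, 0, 0, 0], [1, 1, -2, 2], [0, 1, -1, 1], [0, 0, 0, 1]],
    [[0, 1, -2, 2], [1, 1, -2, 2], [0, 1, -1, 1], [0, 0, 0, 1]],
    [[1, 0, 0, 0], [1, 1, -2, 2], [1, 0, -1, 2], [0, 0, 0, 1]],
    [[0, 1, -2, 2], [1, 1, -2, 2], [1, 0, -1, 2], [0, 0, 0, 1]],
    [[0, 1, -2, 2], [1, 0, -2, 4], [1, 0, -1, 2], [0, 0, 0, 1]],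
    [[0, 1, -2, 2], [1, 0, -2, 4], [0, 0, -1, 3], [0, 0, 0, 1]]],
  [[[1, 0, 0, 0], [0, 1, 0, 0], [0, 0, 1, 0], [0, 0, 0, 1]],
    [[1, 0, 0, 0], [0, 1, 0, 0], [0, 0, 1, 0], [0, 0, 1, -1]],
    [[1, 0, 0, 0], [0, 1, 0, 0], [0, 1, 0, -1], [0, 0, 1, -1]],
    [[1, 0, 0, 0], [1, 1, 0, -2], [0, 1, 0, -1], [0, 0, 1, -1]],
    [[0, 1, 0, -2], [1, 1, 0, -2], [0, 1, 0, -1], [0, 0, 1, -1]],
    [[1, 0, 0, 0], [1, 1, 0, -2], [1, 0, 1, -2], [0, 0, 1, -1]],
    [[0, 1, 0, -2], [1, 1, 0, -2], [1, 0, 1, -2], [0, 0, 1, -1]],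
    [[1, 0, 0, 0], [1, 1, 0, -2], [1, 0, 1, -2], [1, 0, 0, -1]],
    [[0, 1, 0, -2], [1, 0, 2, -4], [1, 0, 1, -2], [0, 0, 1, -1]],
    [[0, 1, 0, -2], [1, 1, 0, -2], [1, 0, 1, -2], [1, 0, 0, -1]],
    [[0, 1, 0, -2], [1, 0, 2, -4], [0, 0, 2, -3], [0, 0, 1, -1]],
    [[0, 1, 0, -2], [1, 0, 2, -4], [1, 0, 1, -2], [1, 0, 0, -1]],
    [[0, 1, 0, -2], [1, 0, 2, -4], [0, 0, 2, -3], [0, 0, 1, -2]],
    [[0, 1, 0, -2], [1, 0, 2, -4], [1, 0, 1, -3], [1, 0, 0, -1]],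
    [[0, 1, 0, -2], [1, 0, 2, -4], [1, 0, 1, -3], [0, 0, 1, -2]],
    [[0, 1, 0, -2], [1, 1, 0, -4], [1, 0, 1, -3], [1, 0, 0, -1]],
    [[0, 1, 0, -2], [1, 1, 0, -4], [1, 0, 1, -3], [0, 0, 1, -2]],
    [[1, 0, 0, -2], [1, 1, 0, -4], [1, 0, 1, -3], [1, 0, 0, -1]],
    [[1, 0, 0, -2], [1, 1, 0, -4], [1, 0, 1, -3], [0, 0, 1, -2]],
    [[0, 1, 0, -2], [1, 1, 0, -4], [0, 1, 0, -3], [0, 0, 1, -2]],
    [[1, 0, 0, -2], [1, 1, 0, -4], [0, 1, 0, -3], [0, 0, 1, -2]],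
    [[1, 0, 0, -2], [0, 1, 0, -4], [0, 1, 0, -3], [0, 0, 1, -2]],
    [[1, 0, 0, -2], [0, 1, 0, -4], [0, 0, 1, -3], [0, 0, 1, -2]],
    [[1, 0, 0, -2], [0, 1, 0, -4], [0, 0, 1, -3], [0, 0, 0, -1]]]]

/-- The representatives of level `k`. -/
def repX (k : ℕ) : List Mx := repsX.getD k []

/-- The elements of the parabolic subgroup of the first `k` reflections. -/
def eltsX : ℕ → List Mx
  | 0 => [idX]
  | k + 1 => (repX k).flatMap fun L => (eltsX k).map fun N => mulX L N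

/-- The roots in fundamental coordinates. -/
def rootsX : List (List ℤ) :=
  [[-2, -4, -3, -2], [-2, -4, -3, -1], [-2, -4, -2, -1], [-2, -3, -2, -1], [-2, -2, -2, -1], [-2, -2, -1, -1], [-2, -2, -1, 0], [-1, -3, -2, -1], [-1, -2, -2, -1], [-1, -2, -1, -1], [-1, -2, -1, 0], [-1, -1, -1, -1], [-1, -1, -1, 0], [-1, -1, 0, 0], [-1, 0, 0, 0], [0, -2, -2, -1], [0, -2, -1, -1], [0, -2, -1, 0], [0, -1, -1, -1], [0, -1, -1, 0], [0, -1, 0, 0], [0, 0, -1, -1], [0, 0, -1, 0], [0, 0, 0, -1], [0, 0, 0, 1], [0, 0, 1, 0], [0, 0, 1, 1], [0, 1, 0, 0], [0, 1, 1, 0], [0, 1, 1, 1], [0, 2, 1, 0], [0, 2, 1, 1], [0, 2, 2, 1], [1, 0, 0, 0], [1, 1, 0, 0], [1, 1, 1, 0], [1, 1, 1, 1], [1, 2, 1, 0], [1, 2, 1, 1], [1, 2, 2, 1], [1, 3, 2, 1], [2, 2, 1, 0], [2, 2, 1, 1], [2, 2, 2, 1], [2, 3, 2, 1], [2, 4, 2, 1], [2, 4, 3, 1], [2, 4, 3, 2]]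

/-- Apply a matrix to a column. -/
def app (M : Mx) (v : List ℤ) : List ℤ :=
  [ent M 0 0 * v.getD 0 0 + ent M 0 1 * v.getD 1 0 + ent M 0 2 * v.getD 2 0 + ent M 0 3 * v.getD 3 0,
   ent M 1 0 * v.getD 0 0 + ent M 1 1 * v.getD 1 0 + ent M 1 2 * v.getD 2 0 + ent M 1 3 * v.getD 3 0,
   ent M 2 0 * v.getD 0 0 + ent M 2 1 * v.getD 1 0 + ent M 2 2 * v.getD 2 0 + ent M 2 3 * v.getD 3 0,
   ent M 3 0 * v.getD 0 0 + ent M 3 1 * v.getD 1 0 + ent M 3 2 * v.getD 2 0 + ent M 3 3 * v.getD 3 0]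

/-- The determinant of four columns. -/
def det4 (a b c d : ℕ → ℤ) : ℤ :=
  (a 0 * b 1 - a 1 * b 0) * (c 2 * d 3 - c 3 * d 2) - (a 0 * b 2 - a 2 * b 0) * (c 1 * d 3 - c 3 * d 1)
    + (a 0 * b 3 - a 3 * b 0) * (c 1 * d 2 - c 2 * d 1) + (a 1 * b 2 - a 2 * b 1) * (c 0 * d 3 - c 3 * d 0)
    - (a 1 * b 3 - a 3 * b 1) * (c 0 * d 2 - c 2 * d 0) + (a 2 * b 3 - a 3 * b 2) * (c 0 * d 1 - c 1 * d 0)

/-- The fundamental vectors. -/
def unitV (j : ℕ) : ℕ → ℤ := fun i => if i = j then 1 else 0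

theorem cramer (a b c d : ℕ → ℤ) (i j : ℕ) (hi : i < 4) (hj : j < 4) :
    det4 (unitV j) b c d * a i + det4 a (unitV j) c d * b i + det4 a b (unitV j) d * c i +
      det4 a b c (unitV j) * d i = det4 a b c d * unitV j i := by
  interval_cases i <;> interval_cases j <;> simp only [det4, unitV] <;> norm_num <;> ring

/-- Evaluate a natural number before use. -/
def forceN {α : Type} : ℕ → (ℕ → α) → α
  | 0, k => k 0
  | m + 1, k => k (m + 1)

/-- Evaluate an integer before use. -/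
def forceI {α : Type} : ℤ → (ℤ → α) → α
  | Int.ofNat n, k => forceN n fun m => k (Int.ofNat m)
  | Int.negSucc n, k => forceN n fun m => k (Int.negSucc m)

/-- Evaluate a vector before use. -/
def forceV {α : Type} : List ℤ → (List ℤ → α) → α
  | [], k => k []
  | a :: l, k => forceI a fun a => forceV l fun l => k (a :: l)

/-- Evaluate a matrix before use. -/
def forceX {α : Type} : Mx → (Mx → α) → α
  | [], k => k []
  | a :: l, k => forceV a fun a => forceX l fun l => k (a :: l)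

theorem forceN_eq {α : Type} (n : ℕ) (k : ℕ → α) : forceN n k = k n := by cases n <;> rfl

theorem forceI_eq {α : Type} (z : ℤ) (k : ℤ → α) : forceI z k = k z := by
  cases z <;> simp [forceI, forceN_eq]

theorem forceV_eq {α : Type} : ∀ (l : List ℤ) (k : List ℤ → α), forceV l k = k l
  | [], _ => rfl
  | a :: l, k => by rw [forceV, forceI_eq, forceV_eq l]

theorem forceX_eq {α : Type} : ∀ (l : Mx) (k : Mx → α), forceX l k = k l
  | [], _ => rfl
  | a :: l, k => by rw [forceX, forceV_eq, forceX_eq l]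

/-- The five annihilating identities. -/
def annB (M M2 M3 M4 : Mx) : Bool :=
  (M4 == idX) || (addX M4 idX == mk4 fun _ _ => 0) || (addX M4 idX == M2) ||
    (addX M4 M3 == addX M idX) || (addX M4 M == addX M3 idX)

/-- Cyclic orbits span. -/
def spanB (M M2 M4 : Mx) : Bool :=
  if (addX M4 idX == mk4 fun _ _ => 0) || (addX M4 idX == M2) then
    rootsX.all fun a => forceV (app M a) fun b => forceV (app M b) fun c => forceV (app M c) fun d =>
      ([1, 2, 4, 8] : List ℕ).contains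
        (det4 (fun i => a.getD i 0) (fun i => b.getD i 0) (fun i => c.getD i 0)
          (fun i => d.getD i 0)).natAbs
  else true

/-- Some orbit sums to zero. -/
def orbB (M M2 M3 : Mx) : Bool :=
  if M == idX then true
  else
    (if M2 == idX then rootsX.any fun a => forceV (app M a) fun b =>
        (List.range 4).all fun i => a.getD i 0 + b.getD i 0 == 0
      else true) &&
    (if M3 == idX then rootsX.any fun a => forceV (app M a) fun b => forceV (app M b) fun c =>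
        (List.range 4).all fun i => a.getD i 0 + b.getD i 0 + c.getD i 0 == 0
      else true)

/-- All three checks. -/
def checkB (M : Mx) : Bool :=
  forceX M fun M => forceX (mulX M M) fun M2 => forceX (mulX M2 M) fun M3 =>
    forceX (mulX M2 M2) fun M4 => annB M M2 M3 M4 && spanB M M2 M4 && orbB M M2 M3

theorem checkB_all : (eltsX 4).all checkB = true := by decide +kernel

/-- The closure of the representatives. -/
def closB (k : ℕ) : Bool :=
  (repX k).contains idX && (repX k).all fun L => (List.range (k + 1)).all fun i =>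
    let N := mulX (genX i) L
    (repX k).contains N || (List.range k).any fun x => N == mulX L (genX x)

theorem closB_all : ∀ k : Fin 4, closB k = true := by decide +kernel

end CfsgLib.Chevalley.F4Prime
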